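import Groth.Agent.ProperComp7.Clopen
import Groth.Agent.H23.LocNoethTop

/-!
# Clopens of a proper scheme over a complete ring and of its closed fibre
-/

universe u

open CategoryTheory CategoryTheory.Limits AlgebraicGeometry TopologicalSpace

namespace Groth.Agent.ProperComp7

/-- Components correspond, given unique lifting of clopens. -/
theorem bijective_connectedComponentsMap {P X : Type u} [TopologicalSpace P] [TopologicalSpace X]
    [LocallyConnectedSpace P] [LocallyConnectedSpace X] {φ : P → X} (hφ : Continuous φ)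
    (h : ∀ V : Set P, IsClopen V → ∃! U : Set X, IsClopen U ∧ φ ⁻¹' U = V) :
    Function.Bijective hφ.connectedComponentsMap := by
  constructor
  · intro a b
    obtain ⟨p, rfl⟩ := ConnectedComponents.surjective_coe a
    obtain ⟨q, rfl⟩ := ConnectedComponents.surjective_coe b
    intro hpq
    obtain ⟨U, ⟨hU, hUV⟩, -⟩ := h (connectedComponent p) isClopen_connectedComponent
    have hp : φ p ∈ U := Set.ext_iff.mp hUV p |>.mpr mem_connectedComponent
    have hq : φ q ∈ U := by
      refine hU.connectedComponent_subset hp ?_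
      have hpq' : (φ p : ConnectedComponents X) = φ q := hpq
      rw [ConnectedComponents.coe_eq_coe] at hpq'
      rw [hpq']; exact mem_connectedComponent
    exact (ConnectedComponents.coe_eq_coe'.mpr (Set.ext_iff.mp hUV q |>.mp hq)).symm
  · intro c
    obtain ⟨x, rfl⟩ := ConnectedComponents.surjective_coe c
    by_contra! hc
    obtain ⟨U, -, hu⟩ := h ∅ isClopen_empty
    have h1 := hu (connectedComponent x) ⟨isClopen_connectedComponent, Set.eq_empty_of_forall_notMem fun p hp =>
      hc p (show (φ p : ConnectedComponents X) = x from ConnectedComponents.coe_eq_coe'.mpr hp)⟩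
    have h2 := hu ∅ ⟨isClopen_empty, Set.preimage_empty⟩
    exact (h1.trans h2.symm).subset mem_connectedComponent

variable {A : Type u} [CommRing A] [IsNoetherianRing A] {I : Ideal A} [IsAdicComplete I A]
  {X : Scheme.{u}} (f : X ⟶ Spec (CommRingCat.of A)) [IsProper f]

theorem mem_basicOpen_toGlobal (a : A) (y : X) :
    y ∈ X.basicOpen (Coh.toGlobal f a) ↔ f y ∈ PrimeSpectrum.basicOpen a := by
  have h : f ⁻¹ᵁ (Spec (CommRingCat.of A)).basicOpen ((Scheme.ΓSpecIso (CommRingCat.of A)).inv a) =
      X.basicOpen (Coh.toGlobal f a) := Scheme.preimage_basicOpen f _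
  rw [← h, basicOpen_eq_of_affine]
  rfl

theorem exists_lift_clopen (V : Set ↥(pullback f (Spec.map (CommRingCat.ofHom (Ideal.Quotient.mk I))))) (hV : IsClopen V) :
    ∃! U : Set X, IsClopen U ∧ (pullback.fst f (Spec.map (CommRingCat.ofHom (Ideal.Quotient.mk I)))) ⁻¹' U = V := by
  letI : X.Over (Spec (CommRingCat.of A)) := ⟨f⟩
  haveI : IsClosedImmersion (Spec.map (CommRingCat.ofHom (Ideal.Quotient.mk I))) :=
    IsClosedImmersion.spec_of_surjective _ Ideal.Quotient.mk_surjective
  haveI : IsProper (X ↘ Spec (CommRingCat.of A)) := ‹IsProper f›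
  let i := pullback.fst f (Spec.map (CommRingCat.ofHom (Ideal.Quotient.mk I)))
  have hrange : Set.range i = f ⁻¹' PrimeSpectrum.zeroLocus (I : Set A) := by
    rw [Scheme.Pullback.range_fst]
    congr 1
    show Set.range (PrimeSpectrum.comap (Ideal.Quotient.mk I)) = _
    rw [range_comap_of_surjective _ _ Ideal.Quotient.mk_surjective, Ideal.mk_ker]
  have hout : ∀ y : X, y ∉ Set.range i → ∃ a ∈ I, y ∈ X.basicOpen (Coh.toGlobal f a) := fun y hy => by
    rw [hrange] at hy
    obtain ⟨a, ha, hay⟩ := Set.not_subset.mp hy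
    exact ⟨a, ha, (mem_basicOpen_toGlobal f a y).mpr hay⟩
  have hmeet : ∀ C : Set X, IsClosed C → C.Nonempty → ∃ p, i p ∈ C := by
    rintro C hC ⟨y, hy⟩
    obtain ⟨m, hm, hle⟩ := Ideal.exists_le_maximal (f y).asIdeal (f y).isPrime.ne_top
    let p : PrimeSpectrum A := ⟨m, hm.isPrime⟩
    have hp : p ∈ f '' C := by
      refine (f.isClosedMap C hC).stableUnderSpecialization ?_ ⟨y, hy, rfl⟩
      exact (PrimeSpectrum.le_iff_specializes _ _).mp hle
    obtain ⟨z, hz, hzp⟩ := hp
    have hIm : I ≤ m := (IsAdicComplete.le_jacobson_bot I).trans (sInf_le ⟨bot_le, hm⟩)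
    have : z ∈ Set.range i := by
      rw [hrange, Set.mem_preimage, hzp]; exact hIm
    obtain ⟨w, rfl⟩ := this
    exact ⟨w, hz⟩
  have huniq : ∀ D D' : Set X, IsClopen D → IsClopen D' → i ⁻¹' D ⊆ i ⁻¹' D' → D ⊆ D' := by
    intro D D' hD hD' hsub y hy
    by_contra hy'
    obtain ⟨p, hp, hp'⟩ := hmeet (D ∩ D'ᶜ) (hD.1.inter hD'.compl.1) ⟨y, hy, hy'⟩
    exact hp' (hsub hp)
  let W : Bool → X.Opens := fun b => ⟨(i '' (if b then Vᶜ else V))ᶜ,
    (i.isClosedEmbedding.isClosedMap _ (by cases b <;> simp [hV.1, hV.compl.1])).isOpen_compl⟩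
  have hmem : ∀ p b, i p ∈ W b ↔ (p ∈ V ↔ b = true) := fun p b => by
    show ¬ i p ∈ i '' (if b then Vᶜ else V) ↔ _
    rw [i.isClosedEmbedding.injective.mem_set_image]
    cases b <;> simp
  have hcov : ⊤ ≤ ⨆ b, W b := fun y _ => by
    rw [Opens.mem_iSup]
    by_contra! hc
    obtain ⟨p, hp, rfl⟩ : ∃ p ∈ (if true then Vᶜ else V : Set _), i p = y := not_not.mp (hc true)
    exact hc false ((hmem p false).mpr (by simpa using hp))
  obtain ⟨s, hs, hsb⟩ := exists_idempotent (I := I) W (fun y ht hf => hout y fun ⟨p, hp⟩ => by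
    subst hp
    have h1 := (hmem p true).mp ht
    have h2 := (hmem p false).mp hf
    simp_all) hcov
  have hi : ∀ a ∈ I, i.appTop (Coh.toGlobal f a) = 0 := fun a ha => by
    show ((f.appTop ≫ i.appTop).hom ((Scheme.ΓSpecIso (CommRingCat.of A)).inv a)) = 0
    rw [← Scheme.Hom.comp_appTop, pullback.condition, Scheme.Hom.comp_appTop, CommRingCat.hom_comp, RingHom.comp_apply]
    have key : (Spec.map (CommRingCat.ofHom (Ideal.Quotient.mk I))).appTop.hom
        ((Scheme.ΓSpecIso (CommRingCat.of A)).inv.hom a) = 0 := by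
      refine (congr($(Scheme.ΓSpecIso_inv_naturality (CommRingCat.ofHom (Ideal.Quotient.mk I))).hom a)).symm.trans ?_
      show (Scheme.ΓSpecIso (CommRingCat.of (A ⧸ I))).inv.hom (Ideal.Quotient.mk I a) = 0
      rw [Ideal.Quotient.eq_zero_iff_mem.mpr ha, map_zero]
    exact (congrArg _ key).trans (map_zero _)
  have htrace : ∀ p, i p ∈ X.basicOpen s ↔ p ∈ V := by
    intro p
    have key : ∀ b, i p ∈ W b → (i p ∈ X.basicOpen s ↔ b = true) := fun b hb => by
      have h1 : i ⁻¹ᵁ X.basicOpen (X.presheaf.map (homOfLE (le_top : W b ≤ ⊤)).op s) =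
          (pullback f (Spec.map (CommRingCat.ofHom (Ideal.Quotient.mk I)))).basicOpen (i.app (W b) (pick b (W b))) := by
        rw [Scheme.preimage_basicOpen, app_eq_of_π_eq i hi (hsb b)]
      have h2 : i p ∈ X.basicOpen s ↔ p ∈ i ⁻¹ᵁ X.basicOpen (X.presheaf.map (homOfLE (le_top : W b ≤ ⊤)).op s) := by
        show _ ↔ i p ∈ X.basicOpen _
        rw [Scheme.basicOpen_res]
        exact ⟨fun h => ⟨hb, h⟩, fun h => h.2⟩
      rw [h2, h1]
      cases b
      · simp [pick, Scheme.basicOpen_zero]
      · simp only [pick, if_true, map_one, iff_true]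
        rw [Scheme.basicOpen_of_isUnit _ isUnit_one]
        exact hb
    by_cases hp : p ∈ V
    · simpa [hp] using key true ((hmem p true).mpr (by simp [hp]))
    · simpa [hp] using key false ((hmem p false).mpr (by simp [hp]))
  have hD : IsClopen (X.basicOpen s : Set X) := by
    refine ⟨⟨?_⟩, (X.basicOpen s).isOpen⟩
    have : (X.basicOpen s : Set X)ᶜ = X.basicOpen (1 - s) := by
      refine (IsCompl.compl_eq ⟨?_, ?_⟩)
      · rw [Set.disjoint_iff_inter_eq_empty, ← Opens.coe_inf, ← Scheme.basicOpen_mul]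
        simp [mul_sub, hs, Scheme.basicOpen_zero]
      · rw [codisjoint_iff]; show ((X.basicOpen s : Set X) ∪ X.basicOpen (1 - s)) = Set.univ; rw [← Opens.coe_sup, ← Opens.coe_top, SetLike.coe_set_eq, eq_top_iff]
        refine le_trans ?_ (X.basicOpen_add_le s (1 - s))
        rw [add_sub_cancel, Scheme.basicOpen_of_isUnit _ isUnit_one]
    rw [this]
    exact (X.basicOpen (1 - s)).isOpen
  refine ⟨X.basicOpen s, ⟨hD, Set.ext htrace⟩, fun U hU => ?_⟩
  have hpre : i ⁻¹' U = i ⁻¹' (X.basicOpen s : Set X) := hU.2.trans (Set.ext htrace).symm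
  exact (huniq _ _ hU.1 hD hpre.subset).antisymm (huniq _ _ hD hU.1 hpre.symm.subset)

theorem bijective_closedFibre :
    Function.Bijective (Continuous.connectedComponentsMap
      (pullback.fst f (Spec.map (CommRingCat.ofHom (Ideal.Quotient.mk I)))).continuous) := by
  haveI : IsLocallyNoetherian X := LocallyOfFiniteType.isLocallyNoetherian f
  haveI : IsClosedImmersion (Spec.map (CommRingCat.ofHom (Ideal.Quotient.mk I))) :=
    IsClosedImmersion.spec_of_surjective _ Ideal.Quotient.mk_surjective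
  haveI : IsLocallyNoetherian (pullback f (Spec.map (CommRingCat.ofHom (Ideal.Quotient.mk I)))) :=
    LocallyOfFiniteType.isLocallyNoetherian (pullback.fst f (Spec.map (CommRingCat.ofHom (Ideal.Quotient.mk I))))
  haveI : CompactSpace X := QuasiCompact.compactSpace_of_compactSpace f
  haveI : CompactSpace ↥(pullback f (Spec.map (CommRingCat.ofHom (Ideal.Quotient.mk I)))) :=
    QuasiCompact.compactSpace_of_compactSpace (pullback.fst f (Spec.map (CommRingCat.ofHom (Ideal.Quotient.mk I))))
  haveI : AlgebraicGeometry.IsNoetherian X := { __ := ‹IsLocallyNoetherian X›, __ := ‹CompactSpace X› }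
  haveI : AlgebraicGeometry.IsNoetherian (pullback f (Spec.map (CommRingCat.ofHom (Ideal.Quotient.mk I)))) :=
    { __ := ‹IsLocallyNoetherian (pullback f _)›, __ := ‹CompactSpace ↥(pullback f _)› }
  have hloc : ∀ (Y : Scheme.{u}) [AlgebraicGeometry.IsNoetherian Y], LocallyConnectedSpace Y := fun Y _ =>
    Groth.Agent.H23.LocNoethTop.locallyConnectedSpace fun y =>
      ⟨Set.univ, Filter.univ_mem, NoetherianSpace.set (Set.univ : Set Y)⟩
  haveI := hloc X
  haveI := hloc (pullback f (Spec.map (CommRingCat.ofHom (Ideal.Quotient.mk I))))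
  exact bijective_connectedComponentsMap _ (exists_lift_clopen f)

end Groth.Agent.ProperComp7
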