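import Groth.Agent.S0003
import Groth.Agent.QCoh.DevissageP
import Groth.Agent.Algz7.Completion

/-!
# Clopen subsets of a proper scheme over a complete Noetherian ring (via formal functions)
-/

universe u

open CategoryTheory CategoryTheory.Limits AlgebraicGeometry Opposite TopologicalSpace

namespace Groth.Agent.ProperComp7

variable {A : Type u} [CommRing A] {X : Scheme.{u}} [X.Over (Spec (CommRingCat.of A))] {I : Ideal A}

/-- The structure module. -/
noncomputable abbrev O (X : Scheme.{u}) : X.Modules := Coh.structureModule X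

/-- The projection to the `n`-th quotient of the structure module. -/
noncomputable abbrev π (I : Ideal A) (X : Scheme.{u}) [X.Over (Spec (CommRingCat.of A))] (n : ℕ) :
    O X ⟶ Formal.modPow I (n + 1) (O X) :=
  Formal.modPowπ I (n + 1) (O X)

/-- The section `1` on an open. -/
noncomputable abbrev one (U : X.Opens) : Γ(O X, U) := (1 : Γ(X, U))

theorem π_smulMod (n : ℕ) {a : A} (ha : a ∈ I ^ (n + 1)) : Formal.smulMod A (O X) a ≫ π I X n = 0 := by
  have h : Sigma.ι (fun _ : (I ^ (n + 1) : Ideal A) => O X) ⟨a, ha⟩ ≫ Formal.smulFamily (I ^ (n + 1)) (O X) =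
      Formal.smulMod A (O X) a := Sigma.ι_desc _ _
  rw [← h, Category.assoc]
  exact (congrArg _ (cokernel.condition (Formal.smulFamily (I ^ (n + 1)) (O X)))).trans comp_zero

theorem π_app_mul_eq_zero (n : ℕ) {a : A} (ha : a ∈ I ^ (n + 1)) (U : X.Opens) (r : Γ(X, U)) :
    (π I X n).app U (X.presheaf.map (homOfLE (le_top : U ≤ ⊤)).op (Coh.toGlobal (X ↘ Spec (CommRingCat.of A)) a) * r :
      Γ(X, U)) = 0 := by
  exact congrArg (fun φ => φ.app U r) (π_smulMod (X := X) n ha)

theorem π_eq_zero_of_disjoint (n : ℕ) (W : X.Opens)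
    (hW : ∀ y : X, y ∈ W → ∃ a ∈ I, y ∈ X.basicOpen (Coh.toGlobal (X ↘ Spec (CommRingCat.of A)) a))
    (r : Γ(X, W)) : (π I X n).app W r = 0 := by
  let g : A → Γ(X, ⊤) := fun a => Coh.toGlobal (X ↘ Spec (CommRingCat.of A)) a
  let J := {a : A // a ∈ I}
  let V : J → X.Opens := fun a => W ⊓ X.basicOpen (g a.1)
  refine TopCat.Sheaf.eq_of_locally_eq' ⟨(Formal.modPow I (n + 1) (O X)).presheaf, Scheme.Modules.isSheaf _⟩
    V W (fun a => homOfLE inf_le_left) (fun y hy => ?_) _ _ fun a => ?_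
  · obtain ⟨a, ha, hya⟩ := hW y hy
    exact Opens.mem_iSup.2 ⟨⟨a, ha⟩, hy, hya⟩
  · refine Eq.trans ?_ (map_zero _).symm
    refine (congrArg (fun k => k.hom r) ((π I X n).mapPresheaf.naturality (homOfLE (inf_le_left : V a ≤ W)).op)).symm.trans ?_
    show (π I X n).app (V a) (X.presheaf.map (homOfLE (inf_le_left : V a ≤ W)).op r : Γ(X, V a)) = 0
    let ρ : A →+* Γ(X, V a) := (X.presheaf.map (homOfLE (le_top : V a ≤ ⊤)).op).hom.comp
      (Coh.toGlobal (X ↘ Spec (CommRingCat.of A)))
    have hu : IsUnit (ρ (a.1 ^ (n + 1))) := by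
      rw [map_pow]
      refine IsUnit.pow _ ?_
      have h1 : IsUnit (X.presheaf.map (homOfLE (X.basicOpen_le (g a.1))).op (g a.1)) :=
        RingedSpace.isUnit_res_basicOpen _ (g a.1)
      have h2 : IsUnit ((X.presheaf.map (homOfLE (inf_le_right : V a ≤ X.basicOpen (g a.1))).op).hom
          (X.presheaf.map (homOfLE (X.basicOpen_le (g a.1))).op (g a.1))) := h1.map _
      rw [← ConcreteCategory.comp_apply, ← Functor.map_comp] at h2
      exact h2
    obtain ⟨u, hu⟩ := hu
    rw [← Units.mul_inv_cancel_left u (X.presheaf.map (homOfLE (inf_le_left : V a ≤ W)).op r), hu]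
    exact π_app_mul_eq_zero n (Ideal.pow_mem_pow a.2 _) (V a) _

theorem π_app_mul (n : ℕ) (U : X.Opens) (r s : Γ(X, U)) :
    (π I X n).app U (r * s : Γ(X, U)) = r • (π I X n).app U s :=
  Scheme.Modules.Hom.app_smul (π I X n) r (s : Γ(O X, U))

theorem π_map (n : ℕ) {U V : X.Opens} (h : V ≤ U) (r : Γ(X, U)) :
    (Formal.modPow I (n + 1) (O X)).presheaf.map (homOfLE h).op ((π I X n).app U r) =
      (π I X n).app V (X.presheaf.map (homOfLE h).op r : Γ(X, V)) :=
  (congrArg (fun k => k.hom r) ((π I X n).mapPresheaf.naturality (homOfLE h).op)).symm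

variable (U : Bool → X.Opens) (hU : ⊤ ≤ ⨆ b, U b)
  (hdisj : ∀ y : X, y ∈ U true → y ∈ U false →
    ∃ a ∈ I, y ∈ X.basicOpen (Coh.toGlobal (X ↘ Spec (CommRingCat.of A)) a))

/-- The section `1` or `0` on the two opens. -/
noncomputable def pick (b : Bool) (V : X.Opens) : Γ(X, V) := if b then 1 else 0

theorem pick_res (b : Bool) {V W : X.Opens} (h : W ≤ V) :
    X.presheaf.map (homOfLE h).op (pick b V) = pick b W := by
  cases b <;> simp [pick]

include hdisj in
theorem pick_compat (n : ℕ) (b c : Bool) (W : X.Opens) (hb : W ≤ U b) (hc : W ≤ U c) :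
    (π I X n).app W (pick b W : Γ(X, W)) = (π I X n).app W (pick c W : Γ(X, W)) := by
  have hz : ∀ (_ : b ≠ c) (r : Γ(X, W)), (π I X n).app W r = 0 := fun hne r =>
    π_eq_zero_of_disjoint n W (fun y hy => by
      cases b <;> cases c <;> first | exact absurd rfl hne | exact hdisj y (hc hy) (hb hy) | exact hdisj y (hb hy) (hc hy)) r
  rcases eq_or_ne b c with rfl | hne
  · rfl
  · exact (hz hne _).trans (hz hne _).symm

include hdisj in
theorem exists_glue (hU : ⊤ ≤ ⨆ b, U b) (n : ℕ) :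
    ∃! t : Γ(Formal.modPow I (n + 1) (O X), ⊤), ∀ b,
      (Formal.modPow I (n + 1) (O X)).presheaf.map (homOfLE (le_top : U b ≤ ⊤)).op t =
        (π I X n).app (U b) (pick b (U b) : Γ(X, U b)) := by
  refine TopCat.Sheaf.existsUnique_gluing' ⟨(Formal.modPow I (n + 1) (O X)).presheaf, Scheme.Modules.isSheaf _⟩
    U ⊤ (fun b => homOfLE le_top) hU (fun b => (π I X n).app (U b) (pick b (U b) : Γ(X, U b))) ?_
  intro b c
  refine ((π_map n inf_le_left _).trans ?_).trans (π_map n inf_le_right _).symm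
  rw [pick_res, pick_res]
  exact pick_compat U hdisj n b c _ inf_le_left inf_le_right

include hdisj in
/-- Formal functions: the piecewise constant function lifts to an idempotent. -/
theorem exists_idempotent [IsNoetherianRing A] [IsAdicComplete I A] [IsProper (X ↘ Spec (CommRingCat.of A))]
    (hU : ⊤ ≤ ⨆ b, U b) :
    ∃ s : Γ(X, ⊤), s * s = s ∧ ∀ b, (π I X 0).app (U b) (X.presheaf.map (homOfLE (le_top : U b ≤ ⊤)).op s : Γ(X, U b)) =
      (π I X 0).app (U b) (pick b (U b) : Γ(X, U b)) := by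
  haveI : IsLocallyNoetherian X := LocallyOfFiniteType.isLocallyNoetherian (X ↘ Spec (CommRingCat.of A))
  have hO : Coh.IsCoh (O X) := QCoh.isCoh_structureModule'
  have hbij := S0003.result A I X (O X) hO 0
  let e := fun N : X.Modules => Sheaf.H.equiv₀ (Coh.toAb N) isTerminalTop
  choose t ht hu using fun n => exists_glue U hdisj hU n
  have htr : ∀ n, (Formal.modPowTrans I (n + 1) (O X)).app ⊤ (t (n + 1)) = t n := fun n => by
    refine hu n _ fun b => ?_
    refine (congrArg (fun k => k.hom (t (n + 1)))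
      ((Formal.modPowTrans I (n + 1) (O X)).mapPresheaf.naturality (homOfLE (le_top : U b ≤ ⊤)).op)).symm.trans ?_
    refine (congrArg ((Formal.modPowTrans I (n + 1) (O X)).app (U b)) (ht (n + 1) b)).trans ?_
    exact congrArg (fun φ => φ.app (U b) (pick b (U b) : Γ(X, U b))) (Formal.modPowπ_trans I (n + 1) (O X))
  have hnat : ∀ {N N' : X.Modules} (φ : N ⟶ N') (x : Coh.HH X N 0),
      e N' (Sheaf.H.map ((SheafOfModules.toSheaf _).map φ) 0 x) = φ.app ⊤ (e N x) := fun φ x =>
    (Sheaf.H.equiv₀_naturality isTerminalTop ((SheafOfModules.toSheaf _).map φ) x).symm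
  have hnat' : ∀ {N N' : X.Modules} (φ : N ⟶ N') (z : Γ(N, ⊤)),
      Sheaf.H.map ((SheafOfModules.toSheaf _).map φ) 0 ((e N).symm z) = (e N').symm (φ.app ⊤ z) := fun φ z =>
    (e _).injective (((hnat φ _).trans (congrArg _ ((e _).apply_symm_apply z))).trans ((e _).apply_symm_apply _).symm)
  obtain ⟨x, hx⟩ := hbij.2 ⟨fun n => (e _).symm (t n), fun n => by
    exact (hnat' (Formal.modPowTrans I (n + 1) (O X)) (t (n + 1))).trans (congrArg (e _).symm (htr n))⟩
  let s : Γ(X, ⊤) := e (O X) x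
  have hs : ∀ n, (π I X n).app ⊤ s = t n := fun n =>
    ((hnat (π I X n) x).symm.trans (congrArg (e _) (congrFun (congrArg Subtype.val hx) n))).trans ((e _).apply_symm_apply _)
  have hsb : ∀ n b, (π I X n).app (U b) (X.presheaf.map (homOfLE (le_top : U b ≤ ⊤)).op s : Γ(X, U b)) =
      (π I X n).app (U b) (pick b (U b) : Γ(X, U b)) := fun n b =>
    (π_map n le_top s).symm.trans ((congrArg _ (hs n)).trans (ht n b))
  refine ⟨s, ?_, hsb 0⟩
  have hss : ∀ n, (π I X n).app ⊤ (s * s : Γ(X, ⊤)) = t n := fun n => by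
    refine hu n _ fun b => (π_map n le_top _).trans ?_
    rw [map_mul, π_app_mul, hsb, ← π_app_mul]
    cases b
    · simp [pick]
    · simp only [pick, if_true, mul_one]; exact hsb n true
  refine (e (O X)).symm.injective (hbij.1 (Subtype.ext (funext fun n => ?_)))
  exact ((hnat' (π I X n) _).trans (congrArg _ ((hss n).trans (hs n).symm))).trans (hnat' (π I X n) _).symm

variable {X₀ : Scheme.{u}} (i : X₀ ⟶ X)

/-- The restriction map `O_X → i_* O_{X₀}`. -/
noncomputable def ψ : O X ⟶ (Scheme.Modules.pushforward i).obj (O X₀) :=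
  SheafOfModules.unitToPushforwardObjUnit i.toRingCatSheafHom

theorem ψ_app (V : X.Opens) (r : Γ(X, V)) : (ψ i).app V r = i.app V r := rfl

theorem app_eq_of_π_eq (hi : ∀ a ∈ I, i.appTop (Coh.toGlobal (X ↘ Spec (CommRingCat.of A)) a) = 0)
    {V : X.Opens} {r r' : Γ(X, V)} (h : (π I X 0).app V r = (π I X 0).app V r') : i.app V r = i.app V r' := by
  have hkill : ∀ a ∈ I ^ (0 + 1), Formal.smulMod A (O X) a ≫ ψ i = 0 := fun a ha => by
    rw [zero_add, pow_one] at ha
    refine Scheme.Modules.hom_ext _ _ fun V => ?_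
    ext (m : Γ(X, V))
    show i.app V (X.presheaf.map (homOfLE (le_top : V ≤ ⊤)).op (Coh.toGlobal (X ↘ Spec (CommRingCat.of A)) a) * (m : Γ(X, V))) = 0
    rw [map_mul, ← ConcreteCategory.comp_apply, i.naturality]
    refine mul_eq_zero_of_left ?_ _
    exact (congrArg (X₀.presheaf.map _).hom (hi a ha)).trans (map_zero _)
  have hfam : Formal.smulFamily (I ^ (0 + 1)) (O X) ≫ ψ i = 0 := Sigma.hom_ext _ _ fun a => by
    rw [comp_zero, ← Category.assoc, show Sigma.ι (fun _ : (I ^ (0 + 1) : Ideal A) => O X) a ≫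
      Formal.smulFamily (I ^ (0 + 1)) (O X) = Formal.smulMod A (O X) a.1 from Sigma.ι_desc _ _]
    exact hkill a.1 a.2
  let φ := cokernel.desc (Formal.smulFamily (I ^ (0 + 1)) (O X)) (ψ i) hfam
  have hφ : π I X 0 ≫ φ = ψ i := cokernel.π_desc _ _ _
  rw [← ψ_app, ← ψ_app, ← hφ]
  exact congrArg (φ.app V) h

end Groth.Agent.ProperComp7
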